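import Groth.Agent.MiscAlg16.Linear
import Mathlib.FieldTheory.IsAlgClosed.Basic
import Mathlib.LinearAlgebra.Dual.Lemmas
import Mathlib.RingTheory.MvPolynomial.Homogeneous
import Mathlib.Algebra.MvPolynomial.Polynomial
import Mathlib.Algebra.MvPolynomial.Funext

/-! Binary forms of small degree: apolar cubics of quintic functionals. -/

universe u

open MvPolynomial

namespace Groth.Agent.BinQuintic

variable (K : Type u) [Field K]

abbrev S (d : ℕ) : Submodule K (MvPolynomial (Fin 2) K) := homogeneousSubmodule (Fin 2) K d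

variable {K}

instance (d : ℕ) : Module.Finite K (S K d) := (MiscAlg16.finrank_homogeneous_two K d).1

theorem finrank_S (d : ℕ) : Module.finrank K (S K d) = d + 1 :=
  (MiscAlg16.finrank_homogeneous_two K d).2

/-- multiplication of forms -/
noncomputable def mulS (a b c : ℕ) (h : a + b = c) : S K a →ₗ[K] S K b →ₗ[K] S K c :=
  LinearMap.mk₂ K (fun x y => ⟨(x : MvPolynomial (Fin 2) K) * y, by
      have := (x.2 : IsHomogeneous _ a).mul (y.2 : IsHomogeneous _ b)
      rwa [h] at this⟩)
    (fun x x' y => Subtype.ext (add_mul _ _ _))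
    (fun t x y => Subtype.ext (smul_mul_assoc _ _ _))
    (fun x y y' => Subtype.ext (mul_add _ _ _))
    (fun t x y => Subtype.ext (mul_smul_comm _ _ _))

theorem mulS_coe {a b c : ℕ} (h : a + b = c) (x : S K a) (y : S K b) :
    ((mulS a b c h x y : S K c) : MvPolynomial (Fin 2) K) = (x : MvPolynomial (Fin 2) K) * y := rfl

/-- A functional on quintics. `pair φ e f = φ (e * f)`. -/
noncomputable def pair (φ : S K 5 →ₗ[K] K) : S K 2 →ₗ[K] Module.Dual K (S K 3) :=
  (mulS 2 3 5 rfl).compr₂ φ

theorem pair_apply (φ : S K 5 →ₗ[K] K) (e : S K 2) (f : S K 3) :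
    pair φ e f = φ (mulS 2 3 5 rfl e f) := rfl

theorem pair_injective {V : Submodule K (MvPolynomial (Fin 2) K)}
    (hsep : ∀ e ∈ S K 2, e ≠ 0 → ∀ F ∈ S K 5, ∃ v ∈ V, ∃ h ∈ S K 3, F = v + e * h)
    (φ : S K 5 →ₗ[K] K) (hφV : ∀ v : S K 5, (v : MvPolynomial (Fin 2) K) ∈ V → φ v = 0)
    (hφ : φ ≠ 0) : Function.Injective (pair φ) := by
  rw [← LinearMap.ker_eq_bot, eq_bot_iff]
  intro e he
  rw [Submodule.mem_bot]
  by_contra he0
  refine hφ (LinearMap.ext fun F => ?_)
  obtain ⟨v, hv, h, hh, hF⟩ := hsep e e.2 (fun h0 => he0 (Subtype.ext h0)) F F.2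
  have h1 : pair φ e ⟨h, hh⟩ = 0 := by rw [LinearMap.mem_ker.1 he]; rfl
  rw [pair_apply] at h1
  have h2 : φ (F - mulS 2 3 5 rfl e ⟨h, hh⟩) = 0 :=
    hφV _ (by rw [Submodule.coe_sub, mulS_coe, hF]; simpa using hv)
  rw [map_sub, h1, sub_zero] at h2
  simpa using h2

/-- The space of cubics apolar to `φ`. -/
noncomputable def apolar (φ : S K 5 →ₗ[K] K) : Submodule K (S K 3) := LinearMap.ker (pair φ).flip

theorem mem_apolar {φ : S K 5 →ₗ[K] K} {g : S K 3} :
    g ∈ apolar φ ↔ ∀ h : S K 2, φ (mulS 2 3 5 rfl h g) = 0 := by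
  constructor
  · intro hg h
    exact LinearMap.congr_fun (LinearMap.mem_ker.1 hg) h
  · intro hg
    exact LinearMap.mem_ker.2 (LinearMap.ext hg)

theorem finrank_apolar {φ : S K 5 →ₗ[K] K} (h : Function.Injective (pair φ)) :
    Module.finrank K (apolar φ) = 1 := by
  have he : apolar φ = (LinearMap.range (pair φ)).dualCoannihilator := by
    ext g
    rw [mem_apolar, Submodule.mem_dualCoannihilator]
    constructor
    · rintro hg _ ⟨h, rfl⟩
      exact hg h
    · intro hg h
      exact hg _ ⟨h, rfl⟩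
  rw [he]
  have h1 := Subspace.finrank_add_finrank_dualCoannihilator_eq (LinearMap.range (pair φ))
  rw [LinearMap.finrank_range_of_inj h, finrank_S, finrank_S] at h1
  omega

theorem exists_gen_aux {W : Type u} [AddCommGroup W] [Module K W] (U : Submodule K W)
    (h : Module.finrank K U = 1) : ∃ g ∈ U, g ≠ 0 ∧ ∀ x ∈ U, ∃ c : K, c • g = x := by
  obtain ⟨⟨g, hg⟩, hg0, hgen⟩ := finrank_eq_one_iff'.1 h
  refine ⟨g, hg, fun h0 => hg0 (Subtype.ext h0), fun x hx => ?_⟩
  obtain ⟨c, hc⟩ := hgen ⟨x, hx⟩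
  exact ⟨c, congrArg Subtype.val hc⟩

theorem exists_gen_apolar {φ : S K 5 →ₗ[K] K} (h : Function.Injective (pair φ)) :
    ∃ g ∈ apolar φ, g ≠ 0 ∧ ∀ x ∈ apolar φ, ∃ c : K, c • g = x :=
  exists_gen_aux (W := ↥(S K 3)) (apolar φ) (finrank_apolar h)

theorem exists_X0_factor (g : MvPolynomial (Fin 2) K) (hg : g.IsHomogeneous 3)
    (h0 : eval ![0, 1] g = 0) : ∃ e, IsHomogeneous e 2 ∧ g = X 0 * e := by
  classical
  have hne : ∀ d ∈ g.support, d 0 ≠ 0 := by
    intro d hd hd0
    have huniq : ∀ d' ∈ g.support, d' 0 = 0 → d' = d := by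
      intro d' hd' hd'0
      have e1 : d.degree = 3 := by
        by_contra hne; exact (mem_support_iff.1 hd) (hg.coeff_eq_zero hne)
      have e2 : d'.degree = 3 := by
        by_contra hne; exact (mem_support_iff.1 hd') (hg.coeff_eq_zero hne)
      rw [Finsupp.degree_eq_sum, Fin.sum_univ_two] at e1 e2
      ext i
      fin_cases i <;> simp <;> omega
    refine (mem_support_iff.1 hd) ?_
    rw [eval_eq', Finset.sum_eq_single d] at h0
    · simpa [Fin.prod_univ_two, hd0] using h0
    · intro d' hd' hne'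
      have : d' 0 ≠ 0 := fun hz => hne' (huniq d' hd' hz)
      simp [Fin.prod_univ_two, zero_pow this]
    · intro h; exact absurd hd h
  refine ⟨∑ d ∈ g.support, monomial (d - Finsupp.single 0 1) (coeff d g), ?_, ?_⟩
  · refine IsHomogeneous.sum _ _ _ fun d hd => isHomogeneous_monomial _ ?_
    have e1 : d.degree = 3 := by
      by_contra hne; exact (mem_support_iff.1 hd) (hg.coeff_eq_zero hne)
    have := hne d hd
    rw [Finsupp.degree_eq_sum, Fin.sum_univ_two] at e1 ⊢
    simp
    omega
  · rw [Finset.mul_sum]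
    conv_lhs => rw [g.as_sum]
    refine Finset.sum_congr rfl fun d hd => ?_
    rw [X, monomial_mul, one_mul, add_tsub_cancel_of_le]
    intro i
    have := hne d hd
    fin_cases i <;> simp
    omega

theorem exists_quadratic_factor [IsAlgClosed K] (g : MvPolynomial (Fin 2) K) (hg : g.IsHomogeneous 3) :
    ∃ l e, IsHomogeneous l 1 ∧ IsHomogeneous e 2 ∧ g = l * e := by
  classical
  have key : ∀ t : K, eval ![t, 1] g = 0 → ∃ l e, IsHomogeneous l 1 ∧ IsHomogeneous e 2 ∧ g = l * e := by
    intro t ht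
    let σ : Fin 2 → MvPolynomial (Fin 2) K := ![X 0 + C t * X 1, X 1]
    let σ' : Fin 2 → MvPolynomial (Fin 2) K := ![X 0 - C t * X 1, X 1]
    have hσ : ∀ i, (σ i).IsHomogeneous 1 := fun i => by
      fin_cases i
      · exact (isHomogeneous_X _ _).add (isHomogeneous_C_mul_X _ _)
      · exact isHomogeneous_X _ _
    have hσ' : ∀ i, (σ' i).IsHomogeneous 1 := fun i => by
      fin_cases i
      · exact (isHomogeneous_X _ _).sub (isHomogeneous_C_mul_X _ _)
      · exact isHomogeneous_X _ _
    have h3 : (aeval σ g).IsHomogeneous 3 := by simpa using hg.aeval σ hσ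
    have h0 : eval ![0, 1] (aeval σ g) = 0 := by
      have : (aeval (![0, 1] : Fin 2 → K)).comp (aeval σ) = aeval (![t, 1] : Fin 2 → K) := by
        apply algHom_ext
        intro i
        fin_cases i <;> simp [σ]
      have := AlgHom.congr_fun this g
      simp only [AlgHom.comp_apply, ← aeval_eq_eval] at this ⊢
      rw [this]
      simpa [aeval_eq_eval] using ht
    obtain ⟨e, he, hge⟩ := exists_X0_factor _ h3 h0
    refine ⟨σ' 0, aeval σ' e, hσ' 0, by simpa using he.aeval σ' hσ', ?_⟩
    have : (aeval σ').comp (aeval σ) = AlgHom.id K (MvPolynomial (Fin 2) K) := by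
      apply algHom_ext
      intro i
      fin_cases i <;> simp [σ, σ']
    have := AlgHom.congr_fun this g
    simp only [AlgHom.comp_apply, AlgHom.id_apply, hge, map_mul, aeval_X] at this
    exact this.symm
  let p : Polynomial K := aeval ![Polynomial.X, 1] g
  have hp : ∀ t, p.eval t = eval ![t, 1] g := by
    intro t
    have : (Polynomial.aeval t).comp (aeval (![Polynomial.X, 1] : Fin 2 → Polynomial K)) = aeval (![t, 1] : Fin 2 → K) := by
      apply algHom_ext
      intro i
      fin_cases i <;> simp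
    have := AlgHom.congr_fun this g
    simpa [p, aeval_eq_eval] using this
  by_cases hd : p.degree = 0
  · -- no `X 0` occurs apart from the constant in `t`
    obtain ⟨c, hc⟩ : ∃ c, p = Polynomial.C c := ⟨_, Polynomial.eq_C_of_degree_eq_zero hd⟩
    refine ⟨X 1, C c * X 1 ^ 2, isHomogeneous_X _ _, isHomogeneous_C_mul_X_pow (R := K) c (1 : Fin 2) 2, ?_⟩
    have hfun : ∀ a b : K, b ≠ 0 → eval ![a, b] g = c * b ^ 3 := by
      intro a b hb
      have h1 : eval (b • ![a / b, 1]) g = b ^ 3 * eval ![a / b, 1] g := by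
        rw [eval_eq', eval_eq', Finset.mul_sum]
        refine Finset.sum_congr rfl fun d hdm => ?_
        have e1 : d.degree = 3 := by
          by_contra hne; exact (mem_support_iff.1 hdm) (hg.coeff_eq_zero hne)
        rw [Finsupp.degree_eq_sum, Fin.sum_univ_two] at e1
        simp only [Fin.prod_univ_two, Pi.smul_apply, smul_eq_mul, mul_pow]
        rw [← e1, pow_add]
        ring
      rw [← hp (a / b), hc, Polynomial.eval_C] at h1
      rw [mul_comm, ← h1]
      congr 2
      ext i
      fin_cases i <;> simp [field]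
    -- both sides agree on `b ≠ 0`, hence everywhere
    have key2 : (X 1 : MvPolynomial (Fin 2) K) * (g - X 1 * (C c * X 1 ^ 2)) = 0 := by
      refine MvPolynomial.funext fun w => ?_
      rcases eq_or_ne (w 1) 0 with hw | hw
      · simp [hw]
      · have hw' : w = ![w 0, w 1] := by ext i; fin_cases i <;> rfl
        rw [map_zero, map_mul, map_sub, hw', hfun _ _ hw]
        simp
        ring_nf
        simp
    rcases mul_eq_zero.1 key2 with h | h
    · exact absurd h (X_ne_zero _)
    · rw [sub_eq_zero.1 h]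
  · obtain ⟨t, ht⟩ := IsAlgClosed.exists_root p hd
    exact key t (hp t ▸ ht)

end Groth.Agent.BinQuintic
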